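import Cfsg.Agent.H357.EP.Signs
import Cfsg.Agent.H318.Four.RowE6

/-!
# S5745, the kill V27 (helper357)

Elementary abelian 2-subgroups of `E₆(q)`, `²E₆(q)`, `q` odd, on the module of dimension 27: all involutions have trace
`3` or `-5`.

* `beta` : the traces;
* `card_le` : the order of an elementary abelian 2-subgroup is at most `64`;
* `no_pure` : no elementary abelian subgroup of order `16` with all involutions conjugate;
* `no_split` : no elementary abelian subgroup of order `64` with `28` involutions in one class and `35` in one class.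
-/

set_option autoImplicit false

namespace Cfsg.Agent.H357.EP

open Cfsg Cfsg.Lie Matrix
open Cfsg.Agent.ChevalleyStructure.E6Min Cfsg.Agent.ChevalleyStructure.E6Min.Tables
  Cfsg.Agent.ChevalleyStructure.E6Min.Basic Cfsg.Agent.ChevalleyStructure.E6Min.Forms
  Cfsg.Agent.ChevalleyStructure.E6Min.Inv Cfsg.Agent.ChevalleyStructure.E6Min.Elim
  Cfsg.Agent.ChevalleyStructure.E6Min.Torus Cfsg.Agent.ChevalleyStructure.E6Min.Adjoint
open Cfsg.Agent.H318.Four

section

variable {F : Type} [Field F] [Fintype F] {E : Type*} [Group E]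

omit [Fintype F] in
theorem exists_hom (hE : ∀ x : E, x * x = 1) (φ : E →* chevE6.group F) :
    ∃ ψ : E →* Zgrp F, ∀ x, ad F (ψ x) = φ x := by
  have hφ : ∀ x, φ x * φ x = 1 := fun x => by rw [← map_mul, hE, map_one]
  choose s hs hsφ using fun x => Lift.exists_lift (RowE6.ker3 F) ad_surjective (hφ x)
  have hcomm : ∀ x y : E, x * y = y * x := by
    intro x y
    have h1 : (x * y)⁻¹ = x * y := inv_eq_of_mul_eq_one_right (hE (x * y))
    rw [_root_.mul_inv_rev, inv_eq_of_mul_eq_one_right (hE x), inv_eq_of_mul_eq_one_right (hE y)] at h1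
    exact h1.symm
  have hc : ∀ x y, s x * s y = s y * s x := by
    intro x y
    have h1 : s x * s y * (s x)⁻¹ = s y := by
      apply Lift.unique (RowE6.ker3 F) _ (hs y)
      · rw [map_mul, map_mul, map_inv, hsφ, hsφ, ← map_mul, hcomm, map_mul, mul_inv_cancel_right]
      · rw [show s x * s y * (s x)⁻¹ * (s x * s y * (s x)⁻¹) = s x * (s y * s y) * (s x)⁻¹ by group, hs, mul_one,
          mul_inv_cancel]
    exact mul_inv_eq_iff_eq_mul.1 h1
  refine ⟨MonoidHom.mk' s fun x y => ?_, hsφ⟩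
  apply Lift.unique (RowE6.ker3 F) (hs _)
  · rw [show s x * s y * (s x * s y) = s x * (s y * s x) * s y by group, ← hc,
      show s x * (s x * s y) * s y = (s x * s x) * (s y * s y) by group, hs, hs, one_mul]
  · rw [hsφ, map_mul, map_mul, hsφ, hsφ]

omit [Fintype F] in
theorem rank_conj {g h : Zgrp F} (x : Zgrp F) (hx : x * g * x⁻¹ = h) :
    (((g : GL I27 F) : Matrix I27 I27 F) - 1).rank = (((h : GL I27 F) : Matrix I27 I27 F) - 1).rank := by
  subst hx
  have h4 : (((x * g * x⁻¹ : Zgrp F) : GL I27 F) : Matrix I27 I27 F) - 1 =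
      ((x : GL I27 F) : Matrix I27 I27 F) * ((((g : GL I27 F) : Matrix I27 I27 F) - 1) *
          (((x : GL I27 F)⁻¹ : GL I27 F) : Matrix I27 I27 F)) := by
    rw [Matrix.sub_mul, Matrix.mul_sub, one_mul, ← Units.val_mul (x : GL I27 F), mul_inv_cancel, Units.val_one,
      ← Units.val_mul, ← Units.val_mul, ← mul_assoc]
    rfl
  have hd : ∀ x : GL I27 F, IsUnit (x : Matrix I27 I27 F).det := fun x =>
    (Matrix.isUnit_iff_isUnit_det _).1 x.isUnit
  rw [h4, Matrix.rank_mul_eq_right_of_isUnit_det _ _ (hd _), Matrix.rank_mul_eq_left_of_isUnit_det _ _ (hd _)]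

omit [Fintype F] in
theorem rank_zero_iff (A : Matrix I27 I27 F) (h : A.rank = 0) : A = 0 := by
  rw [Matrix.rank, Submodule.finrank_eq_zero, LinearMap.range_eq_bot] at h
  ext i j
  have h1 := congrFun (LinearMap.congr_fun h (Pi.single j 1)) i
  simpa using h1

theorem card_I27 : Fintype.card I27 = 27 := by simp [I27]

/-- **the traces on the module of dimension 27** -/
theorem beta (ho : Odd (Fintype.card F)) [Fintype E] (hE : ∀ x : E, x * x = 1) (φ : E →* chevE6.group F)
    (hφ : Function.Injective φ) :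
    ∃ β : E → ℤ, β 1 = 27 ∧ (∀ x, x ≠ 1 → β x = 3 ∨ β x = -5) ∧
      (∀ x y, IsConj (φ x) (φ y) → β x = β y) ∧ (∃ m : ℕ, ∑ x, β x = Fintype.card E * (m : ℤ)) ∧
      27 * (Fintype.card E : ℤ) ≤ ∑ x, β x ^ 2 := by
  have h2 := H351.SpSix.two_ne_zero_of_odd ho
  obtain ⟨ψ, hψ⟩ := exists_hom hE φ
  obtain ⟨κ, iκ, χ, h1, h3, h4, h5⟩ := exists_signs h2 hE ((Zgrp F).subtype.comp ψ)
  have hsq : ∀ x, ψ x * ψ x = 1 := fun x => by rw [← map_mul, hE, map_one]
  refine ⟨fun x => ∑ i, χ i x, ?_, ?_, ?_, sum_beta h3 h4, ?_⟩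
  · dsimp only
    rw [← h5, map_one, Units.val_one, sub_self, Matrix.rank_zero, card_I27]
    norm_num
  · intro x hx
    dsimp only
    rw [← h5, card_I27]
    rcases E6Inv.rank_inv ho h2 (hsq x) with hr | hr | hr
    · exfalso
      apply hx
      apply hφ
      rw [← hψ, map_one]
      have h6 : ((((ψ x : Zgrp F) : GL I27 F) : Matrix I27 I27 F) - 1) = 0 := by
        exact rank_zero_iff _ hr
      have h7 : ψ x = 1 := by
        apply Subtype.ext
        apply Units.ext
        rw [sub_eq_zero] at h6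
        exact h6
      rw [h7, map_one]
    · left
      show (27 : ℕ) - 2 * (((((ψ x : Zgrp F) : GL I27 F) : Matrix I27 I27 F) - 1).rank : ℤ) = 3
      rw [hr]
      norm_num
    · right
      show (27 : ℕ) - 2 * (((((ψ x : Zgrp F) : GL I27 F) : Matrix I27 I27 F) - 1).rank : ℤ) = -5
      rw [hr]
      norm_num
  · intro x y hxy
    obtain ⟨g, hg⟩ := isConj_iff.1 hxy
    obtain ⟨g', rfl⟩ := ad_surjective g
    dsimp only
    rw [← h5, ← h5]
    have h6 : g' * ψ x * g'⁻¹ = ψ y := by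
      apply Lift.unique (RowE6.ker3 F) _ (hsq y)
      · rw [map_mul, map_mul, map_inv, hψ, hψ, hg]
      · rw [show g' * ψ x * g'⁻¹ * (g' * ψ x * g'⁻¹) = g' * (ψ x * ψ x) * g'⁻¹ by group, hsq, mul_one, mul_inv_cancel]
    have h7 := rank_conj g' h6
    show _ - 2 * (((((ψ x : Zgrp F) : GL I27 F) : Matrix I27 I27 F) - 1).rank : ℤ) =
      _ - 2 * (((((ψ y : Zgrp F) : GL I27 F) : Matrix I27 I27 F) - 1).rank : ℤ)
    rw [h7]
  · have h6 := sum_sq h3 h4
    rw [h1, card_I27] at h6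
    exact_mod_cast h6

end

/-- `T` embeds into `E₆(q)` or `²E₆(q)`, `q` odd -/
def InE6 (T : Type*) [Group T] : Prop :=
  ∃ (F : Type) (_ : Field F) (_ : Fintype F), Odd (Fintype.card F) ∧ ∃ f : T →* chevE6.group F, Function.Injective f

section

variable {T : Type*} [Group T]

theorem InE6.mono {S : Type*} [Group S] (h : InE6 T) (f : S →* T) (hf : Function.Injective f) : InE6 S := by
  obtain ⟨F, i1, i2, ho, g, hg⟩ := h
  exact ⟨F, i1, i2, ho, g.comp f, hg.comp hf⟩

theorem inE6 {F : Type} [Field F] [Fintype F] (ho : Odd (Fintype.card F)) (e : T ≃* chevE6.group F) : InE6 T :=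
  ⟨F, inferInstance, inferInstance, ho, e.toMonoidHom, e.injective⟩

theorem inE6_sub {F : Type} [Field F] [Fintype F] (ho : Odd (Fintype.card F)) (S : Subgroup (chevE6.group F)) :
    InE6 S :=
  ⟨F, inferInstance, inferInstance, ho, S.subtype, Subtype.val_injective⟩

theorem inE6_tw {F : Type} [Field F] [Fintype F] (ho : Odd (Fintype.card F)) {q : ℕ} (e : T ≃* twistedE6 F q) :
    InE6 T := by
  have hle : twistedE6 F q ≤ chevE6.group F := H351.SpSix.genSubgroup_le H351.SpSix.IdealE.lac_E6.inList _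
  exact ⟨F, inferInstance, inferInstance, ho, (Subgroup.inclusion hle).comp e.toMonoidHom,
    (Subgroup.inclusion_injective hle).comp e.injective⟩

/-- **the traces** -/
theorem InE6.beta (h : InE6 T) (E : Subgroup T) [Fintype E] (hE : ∀ x ∈ E, x * x = 1) :
    ∃ β : E → ℤ, β 1 = 27 ∧ (∀ x, x ≠ 1 → β x = 3 ∨ β x = -5) ∧
      (∀ x y : E, IsConj (x : T) (y : T) → β x = β y) ∧ (∃ m : ℕ, ∑ x, β x = Fintype.card E * (m : ℤ)) ∧
      27 * (Fintype.card E : ℤ) ≤ ∑ x, β x ^ 2 := by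
  obtain ⟨F, i1, i2, ho, g, hg⟩ := h
  obtain ⟨β, h1, h2, h3, h4, h5⟩ := EP.beta ho (E := E) (fun x => Subtype.ext (hE x x.2)) (g.comp E.subtype)
    (hg.comp Subtype.val_injective)
  exact ⟨β, h1, h2, fun x y hxy => h3 x y (MonoidHom.map_isConj g hxy), h4, h5⟩

/-- the bound for the order of an elementary abelian 2-subgroup, `m` the dimension of the fixed space -/
theorem InE6.bound (h : InE6 T) (E : Subgroup T) [Finite E] (hE : ∀ x ∈ E, x * x = 1) :
    ∃ m : ℕ, Nat.card E * (6 + m) ≤ 384 := by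
  classical
  have := Fintype.ofFinite E
  obtain ⟨β, h1, h2, -, ⟨m, h4⟩, h5⟩ := h.beta E hE
  refine ⟨m, ?_⟩
  rw [Nat.card_eq_fintype_card]
  have h6 : ∀ x : E, β x ^ 2 = (if x = 1 then 768 else 0) + (15 - 2 * β x : ℤ) := by
    intro x
    by_cases hx : x = 1
    · rw [if_pos hx, hx, h1]; norm_num
    · rw [if_neg hx]
      rcases h2 x hx with h | h <;> rw [h] <;> norm_num
  have h7 : ∑ x, β x ^ 2 = 768 + (15 * (Fintype.card E : ℤ) - 2 * (Fintype.card E * (m : ℤ))) := by
    rw [Finset.sum_congr rfl fun x _ => h6 x, Finset.sum_add_distrib, Finset.sum_ite_eq' Finset.univ (1 : E),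
      if_pos (Finset.mem_univ _), Finset.sum_sub_distrib, ← Finset.mul_sum, h4, Finset.sum_const, Finset.card_univ,
      nsmul_eq_mul, mul_comm (15 : ℤ)]
  rw [h7] at h5
  have h8 : (Fintype.card E : ℤ) * (6 + m) ≤ 384 := by linarith
  exact_mod_cast h8

/-- **the 2-rank of `E₆(q)` and `²E₆(q)`, `q` odd, is at most 6** -/
theorem InE6.card_le (h : InE6 T) (E : Subgroup T) [Finite E] (hE : ∀ x ∈ E, x * x = 1) : Nat.card E ≤ 64 := by
  obtain ⟨m, hm⟩ := h.bound E hE
  have h1 : Nat.card E * 6 ≤ Nat.card E * (6 + m) := Nat.mul_le_mul_left _ (by omega)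
  omega

/-- no elementary abelian group of order `2 ^ 7` -/
theorem InE6.no_seven (h : InE6 T) (E : Subgroup T) (hE : ∀ x ∈ E, x * x = 1) (hc : 64 < Nat.card E) : False := by
  have : Finite E := Nat.finite_of_card_ne_zero (by omega)
  have := h.card_le E hE
  omega

/-- the sum of the traces, by two sets of involutions -/
theorem InE6.sum (h : InE6 T) (E : Subgroup T) [Fintype E] (hE : ∀ x ∈ E, x * x = 1) (C : Set T) {u v : T}
    (hC : ∀ x ∈ E, x ≠ 1 → x ∈ C → IsConj u x) (hC' : ∀ x ∈ E, x ≠ 1 → x ∉ C → IsConj v x)  :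
    ∃ a b : ℤ, ∃ m : ℕ, (a = 3 ∨ a = -5) ∧ (b = 3 ∨ b = -5) ∧
      27 + a * Nat.card {x : E // x ≠ 1 ∧ (x : T) ∈ C} + b * Nat.card {x : E // x ≠ 1 ∧ (x : T) ∉ C} =
        Fintype.card E * (m : ℤ) := by
  classical
  obtain ⟨β, h1, h2, h3, ⟨m, h4⟩, -⟩ := h.beta E hE
  have key : ∀ D : Set T, ∀ w : T, (∀ x ∈ E, x ≠ 1 → x ∈ D → IsConj w x) → ∃ a : ℤ, (a = 3 ∨ a = -5) ∧
      ∀ x : E, x ≠ 1 → (x : T) ∈ D → β x = a := by
    intro D w hD
    by_cases hne : ∃ x : E, x ≠ 1 ∧ (x : T) ∈ D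
    · obtain ⟨x, hx, hxD⟩ := hne
      refine ⟨β x, h2 x hx, fun y hy hyD => h3 y x ?_⟩
      exact (hD y y.2 (fun e => hy (Subtype.ext e)) hyD).symm.trans (hD x x.2 (fun e => hx (Subtype.ext e)) hxD)
    · push Not at hne
      exact ⟨3, Or.inl rfl, fun x hx hxD => absurd hxD (hne x hx)⟩
  obtain ⟨a, ha, ha'⟩ := key C u hC
  obtain ⟨b, hb, hb'⟩ := key Cᶜ v hC'
  refine ⟨a, b, m, ha, hb, ?_⟩
  rw [← h4]
  have h6 : ∀ x : E, β x = (if x = 1 then 27 else 0) + (a * (if x ≠ 1 ∧ (x : T) ∈ C then 1 else 0) +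
      b * (if x ≠ 1 ∧ (x : T) ∉ C then 1 else 0)) := by
    intro x
    by_cases hx : x = 1
    · simp [hx, h1]
    · by_cases hxC : (x : T) ∈ C
      · simp [hx, hxC, ha' x hx hxC]
      · simp [hx, hxC, hb' x hx hxC]
  rw [Finset.sum_congr rfl fun x _ => h6 x, Finset.sum_add_distrib, Finset.sum_add_distrib, ← Finset.mul_sum,
    ← Finset.mul_sum, Finset.sum_ite_eq' Finset.univ (1 : E), if_pos (Finset.mem_univ _), Finset.sum_boole,
    Finset.sum_boole, Nat.card_eq_fintype_card, Nat.card_eq_fintype_card, Fintype.card_subtype, Fintype.card_subtype]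
  ring

/-- **no pure `2 ^ 4`** -/
theorem InE6.no_pure (h : InE6 T) (E : Subgroup T) (hE : ∀ x ∈ E, x * x = 1) (hc : Nat.card E = 16) {u : T}
    (hu : ∀ x ∈ E, x ≠ 1 → IsConj u x) : False := by
  classical
  have : Finite E := Nat.finite_of_card_ne_zero (by omega)
  have := Fintype.ofFinite E
  obtain ⟨a, b, m, ha, hb, h1⟩ := h.sum E hE Set.univ (fun x hx hx1 _ => hu x hx hx1)
    (fun x hx hx1 _ => hu x hx hx1)
  have h2 : Nat.card {x : E // x ≠ 1 ∧ (x : T) ∈ Set.univ} = 15 := by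
    have h3 : Nat.card {x : E // x ≠ 1 ∧ (x : T) ∈ Set.univ} = Nat.card {x : E // x ≠ 1} :=
      Nat.card_congr (Equiv.subtypeEquivRight fun x => by simp)
    have h4 : Fintype.card {x : E // x = 1} = 1 := Fintype.card_subtype_eq 1
    have h5 : Nat.card {x : E // x ≠ 1} = Fintype.card E - Fintype.card {x : E // x = 1} := by
      rw [Nat.card_eq_fintype_card]
      exact Fintype.card_subtype_compl _
    rw [h3, h5, h4, ← Nat.card_eq_fintype_card, hc]
  have h3 : Nat.card {x : E // x ≠ 1 ∧ (x : T) ∉ Set.univ} = 0 := by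
    rw [Nat.card_eq_zero]
    left
    exact ⟨fun x => x.2.2 (Set.mem_univ _)⟩
  rw [h2, h3, ← Nat.card_eq_fintype_card, hc] at h1
  rcases ha with rfl | rfl <;> omega

/-- **no `2 ^ 6` with `28 + 35` involutions in two classes** -/
theorem InE6.no_split (h : InE6 T) (E : Subgroup T) (hE : ∀ x ∈ E, x * x = 1) (hc : Nat.card E = 64) (C : Set T)
    {u v : T} (hC : ∀ x ∈ E, x ≠ 1 → x ∈ C → IsConj u x) (hC' : ∀ x ∈ E, x ≠ 1 → x ∉ C → IsConj v x)
    (h35 : Nat.card {x : E // x ≠ 1 ∧ (x : T) ∈ C} = 35) : False := by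
  classical
  have : Finite E := Nat.finite_of_card_ne_zero (by omega)
  have := Fintype.ofFinite E
  obtain ⟨a, b, m, ha, hb, h1⟩ := h.sum E hE C hC hC'
  have h3 : Nat.card {x : E // x ≠ 1 ∧ (x : T) ∈ C} + Nat.card {x : E // x ≠ 1 ∧ (x : T) ∉ C} + 1 = Nat.card E := by
    rw [Nat.card_eq_fintype_card, Nat.card_eq_fintype_card, Nat.card_eq_fintype_card, Fintype.card_subtype,
      Fintype.card_subtype, ← Finset.card_univ (α := E)]
    have h4 : (Finset.univ : Finset E) = ({1} : Finset E) ∪ ((Finset.univ.filter fun x : E => x ≠ 1 ∧ (x : T) ∈ C) ∪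
        Finset.univ.filter fun x : E => x ≠ 1 ∧ (x : T) ∉ C) := by
      ext x
      simp
      by_cases hx : x = 1 <;> by_cases hxC : (x : T) ∈ C <;> simp [hx, hxC]
    conv_rhs => rw [h4]
    rw [Finset.card_union_of_disjoint, Finset.card_union_of_disjoint, Finset.card_singleton]
    · ring
    · rw [Finset.disjoint_left]
      intro x h1 h2
      simp at h1 h2
      exact h2.2 h1.2
    · rw [Finset.disjoint_left]
      intro x h1 h2
      simp at h1 h2
      rcases h2 with h2 | h2 <;> exact h2.1 h1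
  rw [h35, hc] at h3
  have h5 : Nat.card {x : E // x ≠ 1 ∧ (x : T) ∉ C} = 28 := by omega
  rw [h35, h5, ← Nat.card_eq_fintype_card, hc] at h1
  rcases ha with rfl | rfl <;> rcases hb with rfl | rfl <;> omega

end

end Cfsg.Agent.H357.EP
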